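import Mathlib
import Cfsg.Agent.H176.NFBase
import Cfsg.Agent.H518.DghpPSU
import Cfsg.Agent.LieClassical.HermBasic
import Cfsg.Agent.ClassicalGeometry.GUBasic
import Cfsg.Agent.H321.SpecEven.Defs_m3
import Cfsg.Agent.H200.LinFixE_m3
import Cfsg.Agent.H518.DghpPSp_m3
import Cfsg.Agent.S0005
import Cfsg.Agent.S0044
import Cfsg.Agent.Lib.Cores
import Cfsg.Agent.Lib.CoprimeAbelian
import Cfsg.Agent.FastGrp
import Cfsg.Agent.Prune
set_option linter.all false

section
prune_inst 0x7f00000000000000000000000000000000000000000000000000000000000000000000000000000000000000000000000000000000000000000000000000000000000000000000000000000000000000003ffffffffcffffffffffffffffffbeffbdffffffff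

-- part: H176/NFStmt
section
set_option linter.all false

/-!
# S5773: the interface of the classical rows (helper176)

`BdAbs`, `BdOfUnip`: bounds for the `p`-part of solvable groups of order divisible by `r` from bounds for the
`p`-subgroups normalized by an element of order `r`.
`UnipLin`, `AnisoForm`, `WittOneForm`: the `p`-subgroups normalized by an element of order `r` in linear groups and in
isometry groups.
-/

set_option autoImplicit false

namespace Cfsg.Agent.H176.NF

universe u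

/-- The abstract bound. -/
def BdAbs : Prop := ∀ (G : Type u) [Group G] [Finite G] (r p e b : ℕ), r.Prime → p.Prime → r ≠ p → e ≠ 0 →
  (∀ R : Subgroup G, IsPGroup r R → IsCyclic R) →
  (∀ x y : G, orderOf x = r → ∀ k j : ℕ, orderOf y = p ^ j → y * x * y⁻¹ = x ^ k → orderOf (k : ZMod r) ∣ e) →
  (∀ x : G, orderOf x = r → ∀ U : Subgroup G, IsPGroup p U → x ∈ Subgroup.normalizer (U : Set G) →
    (Nat.card U).factorization p ≤ b) →
  Bd G r p (b + e.factorization p)

/-- The bound in linear groups (any prime `p ≠ r`, usually the characteristic), `e` the order of `|F|` modulo `r`. -/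
def BdOfUnip : Prop := ∀ (G : Type) [Group G] [Finite G] (F : Type) [Field F] [Fintype F] (ι : Type) [Fintype ι]
  [DecidableEq ι] (φ : G →* Matrix ι ι F), Function.Injective φ → ∀ r p e b : ℕ, r.Prime → p.Prime → r ≠ p →
  ¬ r ∣ Fintype.card F → orderOf ((Fintype.card F : ℕ) : ZMod r) = e → Fintype.card ι < 2 * e →
  (∀ x : G, orderOf x = r → ∀ U : Subgroup G, IsPGroup p U → x ∈ Subgroup.normalizer (U : Set G) →
    (Nat.card U).factorization p ≤ b) →
  Bd G r p (b + e.factorization p)

/-- `p`-subgroups of a linear group of degree `n` over the field with `p ^ k` elements normalized by an element of order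
`r`, where `|F|` has order `e` modulo `r`. -/
def UnipLin : Prop := ∀ (G : Type) [Group G] [Finite G] (F : Type) [Field F] [Fintype F] (n : ℕ)
  (φ : G →* Matrix (Fin n) (Fin n) F), Function.Injective φ → ∀ r p e k : ℕ, r.Prime → p.Prime → r ≠ p →
  Fintype.card F = p ^ k → orderOf ((Fintype.card F : ℕ) : ZMod r) = e → n < 2 * e →
  ∀ x : G, orderOf x = r → ∀ U : Subgroup G, IsPGroup p U → x ∈ Subgroup.normalizer (U : Set G) →
    (Nat.card U).factorization p ≤ k * (n * (n - 1) / 2 - e * (e - 1) / 2)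

/-- A reflexive nondegenerate sesquilinear form `β` together with a function `κ` (symplectic: `κ = 0`; unitary:
`κ v = β v v`; orthogonal: `κ` the quadratic form, `β` its polar form). -/
structure Pol (F : Type) [Field F] (V : Type) [AddCommGroup V] [Module F V] where
  /-- the form -/
  β : V → V → F
  /-- the norm -/
  κ : V → F
  /-- the field automorphism -/
  σ : F →+* F
  /-- the norm on scalars -/
  N : F → F
  add_left : ∀ u v w, β (u + v) w = β u w + β v w
  smul_left : ∀ (c : F) u v, β (c • u) v = c * β u v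
  add_right : ∀ u v w, β u (v + w) = β u v + β u w
  smul_right : ∀ (c : F) u v, β u (c • v) = σ c * β u v
  refl : ∀ u v, β u v = 0 → β v u = 0
  nondeg : ∀ u, (∀ v, β u v = 0) → u = 0
  κ_add : ∀ u v, β u v = 0 → κ (u + v) = κ u + κ v
  κ_smul : ∀ (c : F) u, κ (c • u) = N c * κ u
  N_zero : ∀ c, N c = 0 → c = 0
  κ_zero : ∀ u, κ u = 0 → β u u = 0
  κ_iso : ∀ u v, β u u = 0 → β v v = 0 → β u v = 0 → ∃ a b : F, (a ≠ 0 ∨ b ≠ 0) ∧ κ (a • u + b • v) = 0

/-- If the fixed space of the element `x` of order `r` is anisotropic, then the `p`-subgroups normalized by `x` have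
order at most two (so they are trivial for `p` odd). -/
def AnisoForm : Prop := ∀ (G : Type) [Group G] [Finite G] (F : Type) [Field F] [Fintype F] (ι : Type) [Fintype ι]
  [DecidableEq ι] (φ : G →* Matrix ι ι F), Function.Injective φ → ∀ P : Pol F (ι → F),
  (∀ (g : G) (u v : ι → F), P.β ((φ g).mulVec u) ((φ g).mulVec v) = P.β u v) →
  (∀ (g : G) (u : ι → F), P.κ ((φ g).mulVec u) = P.κ u) →
  ∀ r p e : ℕ, r.Prime → p.Prime → r ≠ p → CharP F p → orderOf ((Fintype.card F : ℕ) : ZMod r) = e →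
  Fintype.card ι < 2 * e → ∀ x : G, orderOf x = r →
  (∀ v, (φ x).mulVec v = v → P.κ v = 0 → v = 0) →
  ∀ U : Subgroup G, IsPGroup p U → x ∈ Subgroup.normalizer (U : Set G) → Nat.card U ≤ 2

/-- If the fixed space of the element `x` of order `r` has Witt index at most one, then the `p`-subgroups normalized by
`x` have order at most `2 |F| ^ (n - 1)`. -/
def WittOneForm : Prop := ∀ (G : Type) [Group G] [Finite G] (F : Type) [Field F] [Fintype F] (ι : Type) [Fintype ι]
  [DecidableEq ι] (φ : G →* Matrix ι ι F), Function.Injective φ → ∀ P : Pol F (ι → F),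
  (∀ (g : G) (u v : ι → F), P.β ((φ g).mulVec u) ((φ g).mulVec v) = P.β u v) →
  (∀ (g : G) (u : ι → F), P.κ ((φ g).mulVec u) = P.κ u) →
  ∀ r p e : ℕ, r.Prime → p.Prime → r ≠ p → CharP F p → orderOf ((Fintype.card F : ℕ) : ZMod r) = e →
  Fintype.card ι < 2 * e → ∀ x : G, orderOf x = r →
  (∀ u v, (φ x).mulVec u = u → (φ x).mulVec v = v → P.κ u = 0 → P.κ v = 0 → P.β u v = 0 →
    ∃ a b : F, (a ≠ 0 ∨ b ≠ 0) ∧ a • u + b • v = 0) →
  ∀ U : Subgroup G, IsPGroup p U → x ∈ Subgroup.normalizer (U : Set G) →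
    Nat.card U ≤ 2 * Fintype.card F ^ (Fintype.card ι - 1)

end Cfsg.Agent.H176.NF
end

-- part: H272/NFUEv
section
prune_inst 0x300000000000000000000000000000000
set_option linter.all false
open scoped Cfsg.Agent.FastGrp

-- part: H272/NFUBase
section
/-!
# S5773, the rows `PSU n q`, `n ≥ 4`: the form and fixed spaces (helper272)
-/

set_option autoImplicit false
set_option linter.unusedSectionVars false

namespace Cfsg.Agent.H272.NFU

open Module Cfsg Cfsg.Agent.LieClassical.HermBasic Cfsg.Agent.H518.Dghp Cfsg.Agent.H518.DghpMat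
  Cfsg.Agent.H518.DghpFix Cfsg.Agent.H176.NF

section perp

variable {F : Type*} [Field F] [Fintype F] {n q : ℕ}

/-- the orthogonal complement -/
def perp (_hF : Fintype.card F = q ^ 2) (W : Submodule F (Fin n → F)) : Submodule F (Fin n → F) where
  carrier := {x | ∀ w ∈ W, hermForm n F q x w = 0}
  zero_mem' := fun w _ => herm_zero_left w
  add_mem' := fun {x y} hx hy w hw => by rw [herm_add_left, hx w hw, hy w hw, add_zero]
  smul_mem' := fun c x hx w hw => by rw [herm_smul_left, hx w hw, mul_zero]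

theorem mem_perp (hF : Fintype.card F = q ^ 2) {W : Submodule F (Fin n → F)} {x : Fin n → F} :
    x ∈ perp hF W ↔ ∀ w ∈ W, hermForm n F q x w = 0 := Iff.rfl

theorem finrank_perp (hF : Fintype.card F = q ^ 2) (W : Submodule F (Fin n → F)) :
    finrank F W + finrank F (perp hF W) = n := by
  let e := Module.finBasis F W
  let ψ : (Fin n → F) →ₗ[F] (Fin (finrank F W) → F) :=
    { toFun := fun x i => hermForm n F q x (e i)
      map_add' := fun x y => by funext i; exact herm_add_left _ _ _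
      map_smul' := fun c x => by funext i; exact herm_smul_left _ _ _ }
  have hker : LinearMap.ker ψ = perp hF W := by
    ext x
    rw [LinearMap.mem_ker, mem_perp]
    constructor
    · intro h w hw
      have h1 := e.sum_repr ⟨w, hw⟩
      have h2 : w = ∑ i, e.repr ⟨w, hw⟩ i • (e i : Fin n → F) := by
        have := congrArg Subtype.val h1
        rw [Submodule.coe_sum] at this
        exact this.symm
      rw [h2, herm_sum_right hF]
      refine Finset.sum_eq_zero fun i _ => ?_
      have h3 : hermForm n F q x (e i) = 0 := congrFun h i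
      rw [herm_smul_right, h3, mul_zero]
    · intro h
      funext i
      exact h _ (e i).2
  have hsing : ∀ i : Fin (finrank F W), (fun j => if i = j then (1 : F) else 0) = Pi.single i 1 := by
    intro i
    funext j
    rw [Pi.single_apply]
    by_cases h : i = j
    · rw [if_pos h, if_pos h.symm]
    · rw [if_neg h, if_neg (Ne.symm h)]
  have hrange : LinearMap.range ψ = ⊤ := by
    by_contra hne
    obtain ⟨g, hg0, hg⟩ := Submodule.exists_le_ker_of_lt_top _ (lt_top_iff_ne_top.2 hne)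
    apply hg0
    have h1 : ∀ x, hermForm n F q x (∑ i, (g (Pi.single i 1)) ^ q • (e i : Fin n → F)) = 0 := by
      intro x
      have h2 : g (ψ x) = 0 := hg ⟨x, rfl⟩
      rw [herm_sum_right hF, ← h2]
      rw [LinearMap.pi_apply_eq_sum_univ g (ψ x)]
      refine Finset.sum_congr rfl fun i _ => ?_
      rw [herm_smul_right, pow_q_pow_q hF, smul_eq_mul, mul_comm, hsing]
      rfl
    have h3 : ∑ i, (g (Pi.single i 1)) ^ q • (e i : Fin n → F) = 0 := by
      apply herm_nondeg hF
      intro x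
      exact herm_eq_zero_swap hF (h1 x)
    have h4 : ∑ i, (g (Pi.single i 1)) ^ q • e i = 0 := by
      apply Subtype.ext
      rw [Submodule.coe_sum]
      exact h3
    have h5 := Fintype.linearIndependent_iff.1 e.linearIndependent _ h4
    apply LinearMap.ext
    intro y
    rw [LinearMap.pi_apply_eq_sum_univ g y, LinearMap.zero_apply]
    refine Finset.sum_eq_zero fun i _ => ?_
    have h6 : g (Pi.single i 1) = 0 := (pow_q_eq_zero hF).1 (h5 i)
    rw [hsing, h6, smul_zero]
  have h1 := LinearMap.finrank_range_add_finrank_ker ψ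
  rw [hker, hrange, finrank_top, Module.finrank_fin_fun, Module.finrank_fin_fun] at h1
  exact h1

end perp

variable {F : Type} [Field F] [Fintype F] {n q : ℕ}

/-- the matrix of an element of `SU` -/
def mt (Y : SU n F q) : Matrix (Fin n) (Fin n) F := suHom n F q Y

theorem mt_mul (Y Z : SU n F q) : mt (Y * Z) = mt Y * mt Z := map_mul _ _ _

theorem mt_one : mt (1 : SU n F q) = 1 := map_one _

theorem mt_pow (Y : SU n F q) (k : ℕ) : mt (Y ^ k) = mt Y ^ k := map_pow _ _ _

theorem herm_mt (Y : SU n F q) (u v : Fin n → F) :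
    hermForm n F q ((mt Y).mulVec u) ((mt Y).mulVec v) = hermForm n F q u v := Y.2 u v

theorem mt_inj {Y Z : SU n F q} (h : mt Y = mt Z) : Y = Z := suHom_injective n F q h

theorem det_mt (Y : SU n F q) : (mt Y).det = 1 := (Y : Matrix.SpecialLinearGroup (Fin n) F).2

/-- the hermitian form as `Pol` -/
noncomputable def herPol (hF : Fintype.card F = q ^ 2) : Pol F (Fin n → F) where
  β := hermForm n F q
  κ := fun v => hermForm n F q v v
  σ := (ClassicalGeometry.GUBasic.exists_powHom hF).choose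
  N := fun c => c * c ^ q
  add_left := herm_add_left
  smul_left := herm_smul_left
  add_right := herm_add_right hF
  smul_right := fun c u v => by
    rw [(ClassicalGeometry.GUBasic.exists_powHom hF).choose_spec, herm_smul_right]
  refl := fun u v h => herm_eq_zero_swap hF h
  nondeg := fun u h => herm_nondeg hF h
  κ_add := fun u v h => by
    rw [herm_add_left, herm_add_right hF, herm_add_right hF, h, herm_eq_zero_swap hF h, add_zero, zero_add]
  κ_smul := fun c u => by
    rw [herm_smul_left, herm_smul_right, mul_assoc]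
  N_zero := fun c h => by
    rcases mul_eq_zero.1 h with h | h
    · exact h
    · exact (pow_q_eq_zero hF).1 h
  κ_zero := fun u h => h
  κ_iso := fun u v hu _ _ => ⟨1, 0, Or.inl one_ne_zero, by rw [one_smul, zero_smul, add_zero]; exact hu⟩

/-- the fixed space of `x` -/
def fx (x : SU n F q) : Submodule F (Fin n → F) := fixS (Matrix.toLin' (mt x))

theorem mem_fx {x : SU n F q} {v : Fin n → F} : v ∈ fx x ↔ (mt x).mulVec v = v := by
  unfold fx
  rw [mem_fixS, Matrix.toLin'_apply]

theorem toLin_pow {x : SU n F q} {r : ℕ} (hx : orderOf x = r) : Matrix.toLin' (mt x) ^ r = 1 := by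
  have h1 : mt x ^ r = 1 := by rw [← mt_pow, ← hx, pow_orderOf_eq_one, mt_one]
  rw [← Matrix.toLin'_pow, h1, Matrix.toLin'_one]
  rfl

theorem toLin_ne {x : SU n F q} {r : ℕ} (hr : r.Prime) (hx : orderOf x = r) : Matrix.toLin' (mt x) ≠ 1 := by
  intro h
  have h1 : mt x = 1 := Matrix.toLin'.injective (by rw [h, Matrix.toLin'_one]; rfl)
  have h2 : x = 1 := mt_inj (by rw [h1, mt_one])
  rw [h2, orderOf_one] at hx
  exact hr.one_lt.ne hx

/-- dimension of the fixed space for `n < 2 e` -/
theorem finrank_fx {x : SU n F q} {r e : ℕ} (hr : r.Prime) (hrF : ¬ r ∣ Fintype.card F)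
    (he : orderOf ((Fintype.card F : ℕ) : ZMod r) = e) (hne : n < 2 * e) (hx : orderOf x = r) :
    finrank F (fx x) + e = n := by
  have h1 := finrank_fix (f := Matrix.toLin' (mt x)) (k := 1) hr hrF (by rw [pow_one]; exact toLin_pow hx) ⊤
    (fun _ _ => trivial)
  rw [top_inf_eq, finrank_top, finrank_fin, he] at h1
  have h2 : finrank F (fixS (Matrix.toLin' (mt x))) < n := by
    refine lt_of_le_of_ne ((Submodule.finrank_le _).trans finrank_fin.le) fun h => toLin_ne hr hx ?_
    exact fixS_eq_top_iff.1 (Submodule.eq_top_of_finrank_eq (h.trans finrank_fin.symm))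
  obtain ⟨m, hm⟩ := h1
  have hm0 : m ≠ 0 := by
    rintro rfl
    omega
  have hm1 : m < 2 := by
    by_contra hcon
    have : 2 * e ≤ e * m := by
      rw [mul_comm]
      exact Nat.mul_le_mul_left e (by omega)
    omega
  have : m = 1 := by omega
  subst this
  change finrank F (fixS (Matrix.toLin' (mt x))) + e = n
  omega

theorem cast_ne_zero {r : ℕ} (hr : r.Prime) (hrF : ¬ r ∣ Fintype.card F) : (r : F) ≠ 0 :=
  H518.DghpSep.cast_ne_zero_of_not_dvd hr hrF

/-- the fixed space of an element of order prime to the characteristic is nondegenerate -/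
theorem nondeg_fx (hF : Fintype.card F = q ^ 2) {x : SU n F q} {r : ℕ} (hr : r.Prime) (hrF : ¬ r ∣ Fintype.card F)
    (hx : orderOf x = r) {w : Fin n → F} (hw : w ∈ fx x) (h : ∀ v ∈ fx x, hermForm n F q w v = 0) : w = 0 := by
  apply herm_nondeg hF
  intro v
  have hpow : ∀ i : ℕ, (mt x ^ i).mulVec w = w := by
    intro i
    induction i with
    | zero => rw [pow_zero, Matrix.one_mulVec]
    | succ i ih => rw [pow_succ, ← Matrix.mulVec_mulVec, mem_fx.1 hw, ih]
  have hh : ∀ i : ℕ, hermForm n F q w ((mt x ^ i).mulVec v) = hermForm n F q w v := by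
    intro i
    conv_lhs => rw [← hpow i]
    have := herm_mt (x ^ i) w v
    rwa [mt_pow] at this
  have h1 : (∑ i ∈ Finset.range r, (mt x ^ i).mulVec v) ∈ fx x := by
    rw [mem_fx, Matrix.mulVec_sum]
    have h2 : mt x ^ r = 1 := by rw [← mt_pow, ← hx, pow_orderOf_eq_one, mt_one]
    have h3 : ∀ i, (mt x).mulVec ((mt x ^ i).mulVec v) = (mt x ^ (i + 1)).mulVec v := by
      intro i
      rw [Matrix.mulVec_mulVec, ← pow_succ']
    rw [Finset.sum_congr rfl fun i _ => h3 i]
    have h4 := Finset.sum_range_succ' (fun i => (mt x ^ i).mulVec v) r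
    have h5 := Finset.sum_range_succ (fun i => (mt x ^ i).mulVec v) r
    rw [h5, h2, pow_zero] at h4
    exact (add_right_cancel h4).symm
  have h2 := h _ h1
  rw [herm_sum_right hF, Finset.sum_congr rfl fun i _ => hh i, Finset.sum_const, Finset.card_range,
    nsmul_eq_mul] at h2
  exact (mul_eq_zero.1 h2).resolve_left (cast_ne_zero hr hrF)

/-- a one dimensional fixed space is anisotropic -/
theorem aniso_fx (hF : Fintype.card F = q ^ 2) {x : SU n F q} {r : ℕ} (hr : r.Prime) (hrF : ¬ r ∣ Fintype.card F)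
    (hx : orderOf x = r) (hd : finrank F (fx x) ≤ 1) {v : Fin n → F} (hv : v ∈ fx x)
    (hvv : hermForm n F q v v = 0) : v = 0 := by
  by_contra h0
  apply h0
  refine nondeg_fx hF hr hrF hx hv fun w hw => ?_
  have h1 : (⟨v, hv⟩ : fx x) ≠ 0 := fun h => h0 (congrArg Subtype.val h)
  obtain ⟨c, hc⟩ := (finrank_le_one_iff).1 hd
  obtain ⟨a, ha⟩ := hc ⟨v, hv⟩
  obtain ⟨b, hb⟩ := hc ⟨w, hw⟩
  have ha0 : a ≠ 0 := by
    rintro rfl
    rw [zero_smul] at ha
    exact h1 ha.symm
  have h2 : w = (b * a⁻¹) • v := by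
    have h3 : (⟨w, hw⟩ : fx x) = (b * a⁻¹) • ⟨v, hv⟩ := by
      rw [← ha, ← hb, smul_smul, mul_assoc, inv_mul_cancel₀ ha0, mul_one]
    exact congrArg Subtype.val h3
  rw [h2, herm_smul_right, hvv, mul_zero]

/-- a fixed space of dimension at most three has Witt index at most one -/
theorem witt_fx (hF : Fintype.card F = q ^ 2) {x : SU n F q} {r : ℕ} (hr : r.Prime) (hrF : ¬ r ∣ Fintype.card F)
    (hx : orderOf x = r) (hd : finrank F (fx x) ≤ 3) {u v : Fin n → F} (hu : u ∈ fx x) (hv : v ∈ fx x)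
    (huu : hermForm n F q u u = 0) (hvv : hermForm n F q v v = 0) (huv : hermForm n F q u v = 0) :
    ∃ a b : F, (a ≠ 0 ∨ b ≠ 0) ∧ a • u + b • v = 0 := by
  by_contra hcon
  push Not at hcon
  -- the map `w ↦ (h(w, u), h(w, v))` on the fixed space
  let ψ : fx x →ₗ[F] (Fin 2 → F) :=
    { toFun := fun w => ![hermForm n F q w u, hermForm n F q w v]
      map_add' := fun x y => by
        funext i
        fin_cases i
        · exact herm_add_left _ _ _
        · exact herm_add_left _ _ _
      map_smul' := fun c x => by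
        funext i
        fin_cases i
        · exact herm_smul_left _ _ _
        · exact herm_smul_left _ _ _ }
  have hind : LinearIndependent F ![(⟨u, hu⟩ : fx x), ⟨v, hv⟩] := by
    rw [LinearIndependent.pair_iff]
    intro a b hab
    have h1 : a • u + b • v = 0 := congrArg Subtype.val hab
    by_contra h2
    have h3 : a ≠ 0 ∨ b ≠ 0 := by
      by_contra h4
      push Not at h4
      exact h2 h4
    exact hcon a b h3 h1
  have hvu : hermForm n F q v u = 0 := herm_eq_zero_swap hF huv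
  have hker : 2 ≤ finrank F (LinearMap.ker ψ) := by
    have h1 : Submodule.span F (Set.range ![(⟨u, hu⟩ : fx x), ⟨v, hv⟩]) ≤ LinearMap.ker ψ := by
      rw [Submodule.span_le]
      rintro _ ⟨i, rfl⟩
      rw [SetLike.mem_coe, LinearMap.mem_ker]
      fin_cases i
      · funext j
        fin_cases j
        · exact huu
        · exact huv
      · funext j
        fin_cases j
        · exact hvu
        · exact hvv
    have h2 := Submodule.finrank_mono h1
    rwa [finrank_span_eq_card hind, Fintype.card_fin] at h2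
  have hrk := LinearMap.finrank_range_add_finrank_ker ψ
  have hne : LinearMap.range ψ ≠ ⊤ := by
    intro h
    rw [h, finrank_top, Module.finrank_fin_fun] at hrk
    omega
  obtain ⟨g, hg0, hg⟩ := Submodule.exists_le_ker_of_lt_top _ (lt_top_iff_ne_top.2 hne)
  have hg2 : ∀ y : Fin 2 → F, g y = y 0 * g (Pi.single 0 1) + y 1 * g (Pi.single 1 1) := by
    intro y
    have h1 : y = y 0 • Pi.single 0 1 + y 1 • Pi.single 1 1 := by
      ext i
      fin_cases i <;> simp
    conv_lhs => rw [h1]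
    rw [map_add, map_smul, map_smul, smul_eq_mul, smul_eq_mul]
  have h1 : ∀ w ∈ fx x, hermForm n F q w ((g (Pi.single 0 1)) ^ q • u + (g (Pi.single 1 1)) ^ q • v) = 0 := by
    intro w hw
    have h2 : g (ψ ⟨w, hw⟩) = 0 := hg ⟨_, rfl⟩
    rw [hg2] at h2
    change hermForm n F q w u * _ + hermForm n F q w v * _ = 0 at h2
    rw [herm_add_right hF, herm_smul_right, herm_smul_right, pow_q_pow_q hF, pow_q_pow_q hF, ← h2]
    ring
  have h2 : (g (Pi.single 0 1)) ^ q • u + (g (Pi.single 1 1)) ^ q • v = 0 := by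
    refine nondeg_fx hF hr hrF hx ((fx x).add_mem ((fx x).smul_mem _ hu) ((fx x).smul_mem _ hv)) fun w hw => ?_
    exact herm_eq_zero_swap hF (h1 w hw)
  refine hcon _ _ ?_ h2
  by_contra h3
  push Not at h3
  rw [pow_q_eq_zero hF, pow_q_eq_zero hF] at h3
  apply hg0
  apply LinearMap.ext
  intro y
  rw [hg2, h3.1, h3.2, mul_zero, mul_zero, add_zero]
  rfl

end Cfsg.Agent.H272.NFU
end

-- part: H272/NFUEv
section
/-!
# S5773, the rows `PSU n q`, `n ≥ 4`: eigenvalues and eigenvectors (helper272)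
-/

set_option autoImplicit false
set_option linter.unusedSectionVars false

namespace Cfsg.Agent.H272.NFU

open Module Cfsg Cfsg.Agent.H518.DghpMat Cfsg.Agent.H403 Cfsg.Agent.H403.NumTop Polynomial

variable {F : Type} [Field F] [Fintype F] {n q : ℕ} (E : Type) [Field E] [IsAlgClosed E] [Algebra F E]

/-- matrices over `E` -/
def mE (Y : SU n F q) : Matrix (Fin n) (Fin n) E := (algebraMap F E).mapMatrix (mt Y)

theorem mE_mul (Y Z : SU n F q) : mE E (Y * Z) = mE E Y * mE E Z := by rw [mE, mt_mul, map_mul]; rfl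

theorem mE_one : mE E (1 : SU n F q) = 1 := by rw [mE, mt_one, map_one]

theorem mem_evs_iff {Y : SU n F q} {y : E} : y ∈ evs E (mt Y) ↔ (mE E Y).charpoly.IsRoot y := by
  rw [evs, mem_roots ((mt Y).charpoly_monic.map _).ne_zero, mE, RingHom.mapMatrix_apply, Matrix.charpoly_map]

theorem evs_eq_roots (Y : SU n F q) : evs E (mt Y) = (mE E Y).charpoly.roots := by
  rw [evs, mE, RingHom.mapMatrix_apply, Matrix.charpoly_map]

variable {E}

theorem exists_vec {Y : SU n F q} {y : E} (hy : y ∈ evs E (mt Y)) :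
    ∃ v : Fin n → E, v ≠ 0 ∧ (mE E Y).mulVec v = y • v := by
  have h1 := Matrix.mem_spectrum_iff_isRoot_charpoly.2 ((mem_evs_iff E).1 hy)
  rw [← Matrix.spectrum_toLin', ← Module.End.hasEigenvalue_iff_mem_spectrum] at h1
  obtain ⟨v, hv⟩ := h1.exists_hasEigenvector
  refine ⟨v, hv.2, ?_⟩
  have := hv.apply_eq_smul
  rwa [Matrix.toLin'_apply] at this

theorem mem_evs_of_vec {Y : SU n F q} {y : E} {v : Fin n → E} (hv : v ≠ 0) (h : (mE E Y).mulVec v = y • v) :
    y ∈ evs E (mt Y) := by
  rw [mem_evs_iff, ← Matrix.mem_spectrum_iff_isRoot_charpoly, ← Matrix.spectrum_toLin',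
    ← Module.End.hasEigenvalue_iff_mem_spectrum]
  refine Module.End.hasEigenvalue_of_hasEigenvector (x := v) ?_
  refine ⟨Module.End.mem_eigenspace_iff.2 ?_, hv⟩
  rw [Matrix.toLin'_apply, h]

/-- eigenvectors for a simple eigenvalue are unique -/
theorem eigen_unique {Y : SU n F q} (hnd : (evs E (mt Y)).Nodup) {y : E} {v w : Fin n → E} (hv : v ≠ 0)
    (h : (mE E Y).mulVec v = y • v) (hw : (mE E Y).mulVec w = y • w) : ∃ c : E, w = c • v := by
  classical
  have h1 := LinearMap.finrank_maxGenEigenspace_eq (Matrix.toLin' (mE E Y)) y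
  have h2 : (Matrix.toLin' (mE E Y)).charpoly.rootMultiplicity y ≤ 1 := by
    rw [Matrix.charpoly_toLin', ← Polynomial.count_roots, ← evs_eq_roots]
    exact Multiset.nodup_iff_count_le_one.1 hnd y
  have h3 : ∀ u : Fin n → E, (mE E Y).mulVec u = y • u → u ∈ (Module.End.maxGenEigenspace (Matrix.toLin' (mE E Y)) y) := by
    intro u hu
    have h4 : u ∈ Module.End.eigenspace (Matrix.toLin' (mE E Y)) y :=
      Module.End.mem_eigenspace_iff.2 (by rw [Matrix.toLin'_apply, hu])
    exact (Module.End.genEigenspace (Matrix.toLin' (mE E Y)) y).monotone le_top h4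
  rw [← h1] at h2
  obtain ⟨c, hc⟩ := (finrank_le_one_iff).1 h2
  obtain ⟨a, ha⟩ := hc ⟨v, h3 v h⟩
  obtain ⟨b, hb⟩ := hc ⟨w, h3 w hw⟩
  have ha0 : a ≠ 0 := by
    rintro rfl
    rw [zero_smul] at ha
    exact hv (congrArg Subtype.val ha.symm)
  refine ⟨b * a⁻¹, ?_⟩
  have h5 : (⟨w, h3 w hw⟩ : (Module.End.maxGenEigenspace (Matrix.toLin' (mE E Y)) y)) = (b * a⁻¹) • ⟨v, h3 v h⟩ := by
    rw [← ha, ← hb, smul_smul, mul_assoc, inv_mul_cancel₀ ha0, mul_one]
  exact congrArg Subtype.val h5

theorem cl_mt (hF : Fintype.card F = q ^ 2) (Y : SU n F q) : Cl (xv false q) (evs E (mt Y)) :=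
  ⟨inj_xv (t := 1) hF false, evs_unitary hF (ClassicalGeometry.GUBasic.transpose_mul_map (by
    have := one_lt_of_sq hF
    omega) (herm_mt Y)), zero_notMem_evs E _ (isUnit_of_det (det_mt Y))⟩

theorem card_evs_mt (Y : SU n F q) : Multiset.card (evs E (mt Y)) = n := by rw [card_evs, Fintype.card_fin]

theorem pow_of_evs {Y : SU n F q} {k : ℕ} (h : Y ^ k = 1) {y : E} (hy : y ∈ evs E (mt Y)) : y ^ k = 1 := by
  have h1 : mt Y ^ k = (1 : F) • (1 : Matrix (Fin n) (Fin n) F) := by rw [← mt_pow, h, mt_one, one_smul]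
  rw [pow_of_mem_evs E h1 hy, map_one]

/-- if the eigenvalues are distinct and all satisfy `y ^ k = 1` then `Y ^ k = 1` -/
theorem pow_eq_one_of_nodup {Y : SU n F q} {k : ℕ} (hk : 0 < k) (hn : (evs E (mt Y)).Nodup)
    (h : ∀ y ∈ evs E (mt Y), y ^ k = 1) : Y ^ k = 1 := by
  apply mt_inj
  rw [mt_pow, mt_one, pow_eq_smul_of_nodup E hk (c := 1) hn (fun y hy => by rw [h y hy, map_one]), one_smul]

/-- an element of order prime to the characteristic with all eigenvalues one is trivial -/
theorem eq_one_of_evs {p : ℕ} (hp : p.Prime) [CharP F p] {Y : SU n F q} {m : ℕ} (hm : ¬ p ∣ m) (hY : Y ^ m = 1)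
    (h : ∀ y ∈ evs E (mt Y), y = 1) : Y = 1 := by
  classical
  have := Fact.mk hp
  obtain ⟨b, hb⟩ : ∃ b, n ≤ p ^ b := ⟨n, (Nat.lt_pow_self hp.one_lt).le⟩
  have h1 := pow_eq_one_of_evs E p (mt Y) 1 b (fun x hx => by rw [pow_one]; exact h x hx) (fun x => by
    have h2 : (evs E (mt Y)).count x ≤ Multiset.card (evs E (mt Y)) := Multiset.count_le_card _ _
    rw [card_evs_mt] at h2
    exact h2.trans hb)
  rw [one_mul, ← mt_pow, ← mt_one] at h1
  have h2 := mt_inj h1
  have h3 : orderOf Y ∣ Nat.gcd m (p ^ b) := Nat.dvd_gcd (orderOf_dvd_of_pow_eq_one hY) (orderOf_dvd_of_pow_eq_one h2)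
  have h4 : Nat.gcd m (p ^ b) = 1 := Nat.Coprime.pow_right _ ((Nat.Prime.coprime_iff_not_dvd hp).2 hm).symm
  rw [h4, Nat.dvd_one, orderOf_eq_one_iff] at h3
  exact h3

end Cfsg.Agent.H272.NFU
end

private theorem dce_701b03626b89 : _root_.True := by
  try have : _root_.True := by simp only [_root_.Cfsg.Agent.H272.NFU.mE.eq_1]
  exact _root_.True.intro
end

-- part: H743/NFLinB
section
set_option linter.all false
open scoped Cfsg.Agent.FastGrp

/-!
# S5773, row NF-LINB: `BdOfUnip` from `BdAbs` (helper743)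

Two facts about linear groups of degree `n < 2 e`, `e` the order of `|F|` modulo the prime `r`: the `r`-subgroups are
cyclic, and if `y x y⁻¹ = x ^ k`, `x` of order `r`, then the order of `k` modulo `r` divides `e`.
-/

set_option autoImplicit false

namespace Cfsg.Agent.H743.NFLinB

open Module Polynomial IntermediateField

universe u v

section

variable {F : Type u} [Field F] [Fintype F] {Ω : Type v} [Field Ω] [Algebra F Ω]

/-- the degree of an element of order `r` -/
theorem e_dvd {ξ : Ω} {r e : ℕ} (hr : r.Prime) (he : orderOf ((Fintype.card F : ℕ) : ZMod r) = e)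
    (hi : IsIntegral F ξ) (h1 : ξ ^ r = 1) (h2 : ξ ≠ 1) : e ∣ (minpoly F ξ).natDegree := by
  have hrf : Fact r.Prime := ⟨hr⟩
  have hfd : FiniteDimensional F F⟮ξ⟯ := adjoin.finiteDimensional hi
  have hfin : Finite F⟮ξ⟯ := Module.finite_of_finite F
  have h3 : orderOf (AdjoinSimple.gen F ξ) = r := by
    refine orderOf_eq_prime ?_ ?_
    · apply Subtype.ext
      rw [SubmonoidClass.coe_pow, AdjoinSimple.coe_gen, h1]
      rfl
    · intro h
      apply h2
      have := congrArg Subtype.val h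
      rwa [AdjoinSimple.coe_gen] at this
  have h4 : AdjoinSimple.gen F ξ ≠ 0 := by
    intro h
    rw [h, orderOf_zero] at h3
    exact hr.ne_zero h3.symm
  have h5 : orderOf (Units.mk0 _ h4) = r := by
    rw [← h3, ← orderOf_units]
    rfl
  have h6 : r ∣ Nat.card (F⟮ξ⟯)ˣ := by
    rw [← h5]
    exact orderOf_dvd_natCard _
  rw [Nat.card_units, Module.natCard_eq_pow_finrank (K := F), adjoin.finrank hi, Nat.card_eq_fintype_card] at h6
  have hq : 1 ≤ Fintype.card F := Fintype.card_pos
  rwa [← he, ← Cfsg.Agent.Lib.Zsigmondy.dvd_pow_sub_one_iff hq]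

/-- conjugate roots -/
theorem order_dvd_of_minpoly {ξ : Ω} {r k : ℕ} (hr : r.Prime)
    (hi : IsIntegral F ξ) (h1 : ξ ^ r = 1) (h2 : ξ ≠ 1) (hm : minpoly F (ξ ^ k) = minpoly F ξ) :
    orderOf (k : ZMod r) ∣ (minpoly F ξ).natDegree := by
  have hrf : Fact r.Prime := ⟨hr⟩
  have hfd : FiniteDimensional F F⟮ξ⟯ := adjoin.finiteDimensional hi
  have hfin : Finite F⟮ξ⟯ := Module.finite_of_finite F
  set a := AdjoinSimple.gen F ξ with ha
  have h3 : orderOf a = r := by
    refine orderOf_eq_prime ?_ ?_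
    · apply Subtype.ext
      rw [SubmonoidClass.coe_pow, AdjoinSimple.coe_gen, h1]
      rfl
    · intro h
      apply h2
      have := congrArg Subtype.val h
      rwa [AdjoinSimple.coe_gen] at this
  let pb := adjoin.powerBasis hi
  have hgen : pb.gen = a := adjoin.powerBasis_gen hi
  have hma : minpoly F a = minpoly F ξ := minpoly_gen F ξ
  have hroot : aeval (a ^ k) (minpoly F pb.gen) = 0 := by
    rw [hgen, hma, ← hm]
    have h4 : minpoly F (a ^ k) = minpoly F (ξ ^ k) := by
      have := minpoly.algebraMap_eq (A := F) (B := F⟮ξ⟯) (B' := Ω) (FaithfulSMul.algebraMap_injective F⟮ξ⟯ Ω) (a ^ k)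
      rw [← this, map_pow]
      rfl
    rw [← h4]
    exact minpoly.aeval F _
  let τ₀ : F⟮ξ⟯ →ₐ[F] F⟮ξ⟯ := pb.lift (a ^ k) hroot
  have hτ₀ : τ₀ a = a ^ k := by
    rw [← hgen]
    show pb.lift _ _ _ = _
    rw [pb.lift_gen, hgen]
  let τ : F⟮ξ⟯ ≃ₐ[F] F⟮ξ⟯ := AlgEquiv.ofBijective τ₀ (Algebra.IsAlgebraic.algHom_bijective τ₀)
  have hτ : ∀ n : ℕ, (τ ^ n) a = a ^ k ^ n := by
    intro n
    induction n with
    | zero => simp
    | succ n ih =>
      rw [pow_succ', AlgEquiv.mul_apply, ih, map_pow]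
      show (τ₀ a) ^ k ^ n = _
      rw [hτ₀, ← pow_mul, pow_succ']
  have hcard : Nat.card (F⟮ξ⟯ ≃ₐ[F] F⟮ξ⟯) = (minpoly F ξ).natDegree := by
    rw [IsGalois.card_aut_eq_finrank, adjoin.finrank hi]
  have h5 : τ ^ (minpoly F ξ).natDegree = 1 := by
    rw [← hcard]
    exact pow_card_eq_one'
  have h6 := hτ (minpoly F ξ).natDegree
  rw [h5] at h6
  have h7 : a ^ 1 = a ^ k ^ (minpoly F ξ).natDegree := by
    rw [pow_one]
    exact h6
  have ha0 : a ≠ 0 := by
    intro h
    rw [h, orderOf_zero] at h3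
    exact hr.ne_zero h3.symm
  have h8 : 1 ≡ k ^ (minpoly F ξ).natDegree [MOD r] := by
    have h10 : orderOf (Units.mk0 a ha0) = r := by
      rw [← h3, ← orderOf_units]
      rfl
    rw [← h10, ← pow_eq_pow_iff_modEq]
    apply Units.ext
    exact h7
  refine orderOf_dvd_of_pow_eq_one ?_
  have h9 := (ZMod.natCast_eq_natCast_iff _ _ _).2 h8
  rw [Nat.cast_pow, Nat.cast_one] at h9
  exact h9.symm

variable {V : Type*} [AddCommGroup V] [Module F V] [FiniteDimensional F V]

/-- **The normalizer of an element of order `r`.** -/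
theorem orderOf_dvd_of_conj {r e k : ℕ} (hr : r.Prime) (hrF : ¬ r ∣ Fintype.card F)
    (he : orderOf ((Fintype.card F : ℕ) : ZMod r) = e) {g s t : V →ₗ[F] V} (hgr : g ^ r = 1) (hg1 : g ≠ 1)
    (hst : s * t = 1) (hts : t * s = 1) (hsg : s * g * t = g ^ k) (hlt : finrank F V < 2 * e) :
    orderOf (k : ZMod r) ∣ e := by
  have hrf : Fact r.Prime := ⟨hr⟩
  have hrF' : (r : F) ≠ 0 := Cfsg.Agent.H518.DghpSep.cast_ne_zero_of_not_dvd hr hrF
  set P := minpoly F g with hP
  let Φ : F[X] := ∑ i ∈ Finset.range r, X ^ i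
  have hΦ : Φ * (X - 1) = X ^ r - 1 := geom_sum_mul X r
  have hncop : ¬ IsCoprime P Φ := by
    rintro ⟨a, b, hab⟩
    have h1 := congrArg (aeval g) hab
    rw [map_add, map_mul, map_mul, map_one, minpoly.aeval, mul_zero, zero_add] at h1
    have h2 : aeval g Φ * (g - 1) = 0 := by
      have := congrArg (aeval g) hΦ
      rw [map_mul, map_sub, map_sub, map_pow, aeval_X, map_one, hgr, sub_self] at this
      exact this
    apply hg1
    have h3 : g - 1 = 0 := by
      calc g - 1 = (aeval g b * aeval g Φ) * (g - 1) := by rw [h1, one_mul]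
        _ = aeval g b * (aeval g Φ * (g - 1)) := by rw [mul_assoc]
        _ = 0 := by rw [h2, mul_zero]
    exact sub_eq_zero.1 h3
  have hex : ∃ ξ : AlgebraicClosure F, aeval ξ P = 0 ∧ aeval ξ Φ = 0 := by
    by_contra hcon
    push Not at hcon
    apply hncop
    refine (Polynomial.isCoprime_iff_aeval_ne_zero_of_isAlgClosed F (AlgebraicClosure F) P Φ).2 ?_
    intro a
    by_cases h : aeval a P = 0
    · exact Or.inr (hcon a h)
    · exact Or.inl h
  obtain ⟨ξ, hξP, hξΦ⟩ := hex
  have hξr : ξ ^ r = 1 := by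
    have := congrArg (aeval ξ) hΦ
    rw [map_mul, hξΦ, zero_mul, map_sub, map_pow, aeval_X, map_one] at this
    exact (sub_eq_zero.1 this.symm)
  have hξ1 : ξ ≠ 1 := by
    rintro rfl
    rw [map_sum] at hξΦ
    simp only [map_pow, aeval_X, one_pow, Finset.sum_const, Finset.card_range, nsmul_eq_mul, mul_one] at hξΦ
    have h1 : (algebraMap F (AlgebraicClosure F)) (r : F) = 0 := by rw [map_natCast]; exact hξΦ
    exact hrF' ((FaithfulSMul.algebraMap_injective F (AlgebraicClosure F)) (by rw [h1, map_zero]))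
  have hi : ∀ z : AlgebraicClosure F, IsIntegral F z := fun z => Algebra.IsIntegral.isIntegral z
  -- `k` is prime to `r`
  have hrk : ¬ r ∣ k := by
    rintro ⟨c, rfl⟩
    rw [pow_mul, hgr, one_pow] at hsg
    apply hg1
    calc g = (t * s) * g * (t * s) := by rw [hts, one_mul, mul_one]
      _ = t * (s * g * t) * s := by noncomm_ring
      _ = 1 := by rw [hsg, mul_one, hts]
  have hξo : orderOf ξ = r := orderOf_eq_prime hξr hξ1
  have hξk : ξ ^ k ≠ 1 := by
    intro h
    apply hrk
    rw [← hξo]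
    exact orderOf_dvd_of_pow_eq_one h
  have hξkr : (ξ ^ k) ^ r = 1 := by rw [← pow_mul, mul_comm, pow_mul, hξr, one_pow]
  -- both minimal polynomials divide `P`
  have hm : minpoly F ξ ∣ P := minpoly.dvd F ξ hξP
  have hPk : aeval (g ^ k) P = 0 := by
    have h1 : ∀ Q : F[X], aeval (s * g * t) Q = s * aeval g Q * t := by
      intro Q
      have h2 : ∀ n : ℕ, (s * g * t) ^ n = s * g ^ n * t := by
        intro n
        induction n with
        | zero => rw [pow_zero, pow_zero, mul_one, hst]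
        | succ n ih =>
          rw [pow_succ, ih, pow_succ]
          calc s * g ^ n * t * (s * g * t) = s * g ^ n * (t * s) * g * t := by noncomm_ring
            _ = s * (g ^ n * g) * t := by rw [hts, mul_one]; noncomm_ring
      induction Q using Polynomial.induction_on' with
      | add p q hp hq => rw [map_add, hp, hq, map_add, mul_add, add_mul]
      | monomial n a =>
        rw [aeval_monomial, aeval_monomial, h2, Algebra.algebraMap_eq_smul_one]
        simp only [smul_mul_assoc, one_mul, mul_smul_comm]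
    rw [← hsg, h1, hP, minpoly.aeval, mul_zero, zero_mul]
  have hm' : minpoly F (ξ ^ k) ∣ P := by
    apply minpoly.dvd
    have h1 : P ∣ P.comp (X ^ k) := by
      apply minpoly.dvd
      rw [aeval_comp, map_pow, aeval_X, hPk]
    obtain ⟨c, hc⟩ := h1
    have h2 : aeval ξ (P.comp (X ^ k)) = 0 := by rw [hc, map_mul, hξP, zero_mul]
    rwa [aeval_comp, map_pow, aeval_X] at h2
  have hP0 : P ≠ 0 := minpoly.ne_zero (Algebra.IsIntegral.isIntegral g)
  have hdeg : P.natDegree ≤ finrank F V := by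
    have h1 := LinearMap.minpoly_dvd_charpoly g
    have h2 := Polynomial.natDegree_le_of_dvd h1 (LinearMap.charpoly_monic g).ne_zero
    rwa [LinearMap.charpoly_natDegree] at h2
  have he1 := e_dvd hr he (hi ξ) hξr hξ1
  have he2 := e_dvd hr he (hi (ξ ^ k)) hξkr hξk
  have hp1 := minpoly.natDegree_pos (hi ξ)
  have hp2 := minpoly.natDegree_pos (hi (ξ ^ k))
  have hl1 := Nat.le_of_dvd hp1 he1
  have hl2 := Nat.le_of_dvd hp2 he2
  have heq : minpoly F (ξ ^ k) = minpoly F ξ := by
    by_contra hne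
    have hcop : IsCoprime (minpoly F (ξ ^ k)) (minpoly F ξ) := by
      rcases (minpoly.irreducible (hi (ξ ^ k))).isCoprime_or_dvd (minpoly F ξ) with h | h
      · exact h
      · exact absurd (eq_of_monic_of_associated (minpoly.monic (hi _)) (minpoly.monic (hi _))
          ((minpoly.irreducible (hi (ξ ^ k))).associated_of_dvd (minpoly.irreducible (hi ξ)) h)) hne
    have h1 := Polynomial.natDegree_le_of_dvd (hcop.mul_dvd hm' hm) hP0
    rw [natDegree_mul (minpoly.ne_zero (hi _)) (minpoly.ne_zero (hi _))] at h1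
    omega
  have h1 := order_dvd_of_minpoly hr (hi ξ) hξr hξ1 heq
  have h2 : (minpoly F ξ).natDegree = e := by
    obtain ⟨c, hc⟩ := he1
    have h3 := Polynomial.natDegree_le_of_dvd hm hP0
    have h4 : c < 2 := by
      by_contra h
      have : e * 2 ≤ e * c := Nat.mul_le_mul_left e (by omega)
      omega
    have h5 : c ≠ 0 := by
      rintro rfl
      omega
    have h6 : c = 1 := by omega
    rw [hc, h6, mul_one]
  rwa [h2] at h1

end

open Cfsg.Agent.H176.NF

/-- **NF-LINB.** -/
theorem bdOfUnip (hA : BdAbs.{0}) : BdOfUnip := by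
  intro G _ _ F _ _ ι _ _ φ hφ r p e b hr hp hrp hrF he hlt hU
  have hrf : Fact r.Prime := ⟨hr⟩
  have hrF' : (r : F) ≠ 0 := Cfsg.Agent.H518.DghpSep.cast_ne_zero_of_not_dvd hr hrF
  have hfd : finrank F (ι → F) = Fintype.card ι := by simp
  -- the representation
  let ρ : G →* (ι → F) →ₗ[F] (ι → F) :=
    ((Matrix.toLinAlgEquiv' : Matrix ι ι F ≃ₐ[F] _).toMonoidHom.comp φ : G →* _)
  have hρ : Function.Injective ρ := fun a b hab => hφ ((Matrix.toLinAlgEquiv' : Matrix ι ι F ≃ₐ[F] _).injective hab)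
  have he0 : e ≠ 0 := by
    have h1 : ((Fintype.card F : ℕ) : ZMod r) ≠ 0 := by
      rw [Ne, ZMod.natCast_eq_zero_iff]
      exact hrF
    rw [← he]
    have h2 : orderOf (Units.mk0 _ h1) = orderOf ((Fintype.card F : ℕ) : ZMod r) := by
      rw [← orderOf_units]
      rfl
    rw [← h2]
    exact (orderOf_pos _).ne'
  refine hA G r p e b hr hp hrp he0 ?_ ?_ hU
  · intro R hR
    refine Cfsg.Agent.H200.LinFix.isCyclic_of (V := ι → F) (d := e) hR (ρ.comp R.subtype) ?_ ?_ hrF' ?_
    · exact hρ.comp R.subtype_injective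
    · intro m hm
      rw [Nat.card_eq_fintype_card] at hm
      rwa [← he, ← Cfsg.Agent.Lib.Zsigmondy.dvd_pow_sub_one_iff Fintype.card_pos]
    · rwa [hfd]
  · intro x y hx k j hy hyx
    refine orderOf_dvd_of_conj (V := ι → F) hr hrF he (g := ρ x) (s := ρ y) (t := ρ y⁻¹) ?_ ?_ ?_ ?_ ?_ ?_
    · exact Cfsg.Agent.H518.DghpSep.pow_eq_one_of_orderOf ρ hx
    · exact Cfsg.Agent.H518.DghpSep.ne_one_of_orderOf ρ hρ hr hx
    · rw [← map_mul, mul_inv_cancel, map_one]
    · rw [← map_mul, inv_mul_cancel, map_one]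
    · rw [← map_mul, ← map_mul, hyx, map_pow]
    · rwa [hfd]

end Cfsg.Agent.H743.NFLinB
end

-- part: H176/NFAbs
section
set_option linter.all false
open scoped Cfsg.Agent.FastGrp

/-!
# `BdAbs`: the abstract bound for the `p`-part of a solvable group of order divisible by `r` (helper176, S5773)
-/

set_option autoImplicit false

namespace Cfsg.Agent.H176.NF

open Cfsg.Agent.Lib.Cores

universe u

theorem mem_zpowers_of_cyclic {R : Type u} [Group R] [Finite R] [IsCyclic R] {p : ℕ}
    (hp : p.Prime) {x v : R} (hx : orderOf x = p) (hv : orderOf v = p) : v ∈ Subgroup.zpowers x := by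
  classical
  have := Fintype.ofFinite R
  have h1 := IsCyclic.card_pow_eq_one_le (α := R) (n := p) hp.pos
  have h2 : (Finset.univ.filter fun y : R => y ∈ Subgroup.zpowers x) ⊆
      Finset.univ.filter fun y : R => y ^ p = 1 := by
    intro y hy
    rw [Finset.mem_filter] at hy ⊢
    refine ⟨Finset.mem_univ _, ?_⟩
    obtain ⟨i, rfl⟩ := Subgroup.mem_zpowers_iff.mp hy.2
    rw [← zpow_natCast, ← zpow_mul, mul_comm, zpow_mul, zpow_natCast, ← hx, pow_orderOf_eq_one,
      one_zpow]
  have h3 : (Finset.univ.filter fun y : R => y ∈ Subgroup.zpowers x).card = p := by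
    rw [← hx, ← Nat.card_zpowers, Nat.card_eq_fintype_card, Fintype.card_subtype]
  have h4 := Finset.eq_of_subset_of_card_le h2 (by rw [h3]; exact h1)
  have h5 : v ∈ Finset.univ.filter fun y : R => y ^ p = 1 := by
    rw [Finset.mem_filter]
    exact ⟨Finset.mem_univ _, by rw [← hv, pow_orderOf_eq_one]⟩
  rw [← h4, Finset.mem_filter] at h5
  exact h5.2

/-- In a cyclic subgroup the elements of order `p` are powers of one another. -/
theorem mem_zpowers_of_cyclic' {G : Type u} [Group G] [Finite G] {R : Subgroup G} (hR : IsCyclic R) {p : ℕ}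
    (hp : p.Prime) {x v : G} (hxR : x ∈ R) (hvR : v ∈ R) (hx : orderOf x = p) (hv : orderOf v = p) :
    v ∈ Subgroup.zpowers x := by
  have h1 := mem_zpowers_of_cyclic (R := R) hp (x := ⟨x, hxR⟩) (v := ⟨v, hvR⟩)
    (by rw [Subgroup.orderOf_mk, hx]) (by rw [Subgroup.orderOf_mk, hv])
  obtain ⟨i, hi⟩ := Subgroup.mem_zpowers_iff.1 h1
  exact Subgroup.mem_zpowers_iff.2 ⟨i, congrArg Subtype.val hi⟩

/-- The structure of a solvable `{p, r}`-group with trivial `p`-core and cyclic `r`-subgroups. -/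
theorem exists_normal_elt {X : Type u} [Group X] [Finite X] [Group.IsSolvable X] {p r : ℕ} (hp : p.Prime)
    (hr : r.Prime) (hpr : r ≠ p) (hprs : ∀ l : ℕ, l.Prime → l ∣ Nat.card X → l = p ∨ l = r)
    (hcore : Cfsg.pCore p X = ⊥) (hcyc : ∀ R : Subgroup X, IsPGroup r R → IsCyclic R) (hrX : r ∣ Nat.card X) :
    ∃ x : X, orderOf x = r ∧ (∀ g : X, g * x * g⁻¹ ∈ Subgroup.zpowers x) ∧
      ∀ y : X, (∃ j, orderOf y = p ^ j) → y * x = x * y → y = 1 := by
  have := Fact.mk hp
  have := Fact.mk hr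
  have hF : Cfsg.fittingSubgroup X ≤ Cfsg.pCore r X := by
    rw [fittingSubgroup_eq_iSup_pCore]
    refine iSup_le fun t => ?_
    have := Fact.mk t.2
    by_cases htr : (t : ℕ) = r
    · rw [htr]
    · by_cases htp : (t : ℕ) = p
      · rw [htp, hcore]; exact bot_le
      · have h1 := (pCore_isPGroup (G := X) (t : ℕ)).card_eq_or_dvd
        rcases h1 with h1 | h1
        · rw [Subgroup.card_eq_one.1 h1]; exact bot_le
        · rcases hprs t t.2 (h1.trans (Subgroup.card_subgroup_dvd_card _)) with h | h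
          · exact absurd h htp
          · exact absurd h htr
  have hC : Subgroup.centralizer (Cfsg.pCore r X : Set X) ≤ Cfsg.pCore r X := by
    refine le_trans ?_ (le_trans (Cfsg.Agent.S0044.result (G := X)) hF)
    exact Subgroup.centralizer_le hF
  have hR := hcyc _ (pCore_isPGroup (G := X) r)
  have hRn := pCore_normal (G := X) r
  have hne : Cfsg.pCore r X ≠ ⊥ := by
    intro h
    rw [h, Subgroup.coe_bot] at hC
    have h1 : (⊤ : Subgroup X) ≤ ⊥ := by
      refine le_trans ?_ hC
      intro g _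
      rw [Subgroup.mem_centralizer_iff]
      rintro _ rfl
      simp
    have h2 : Nat.card X = 1 := by
      rw [← Subgroup.card_top, le_antisymm h1 bot_le, Subgroup.card_bot]
    rw [h2] at hrX
    exact hr.one_lt.ne' (Nat.dvd_one.1 hrX)
  obtain ⟨x, hx⟩ : ∃ x : Cfsg.pCore r X, orderOf x = r := by
    refine exists_prime_orderOf_dvd_card' r ?_
    exact (pCore_isPGroup (G := X) r).card_eq_or_dvd.resolve_left fun h => hne (Subgroup.card_eq_one.1 h)
  have hx' : orderOf (x : X) = r := by rw [Subgroup.orderOf_coe, hx]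
  refine ⟨x, hx', fun g => ?_, fun y hy hyx => ?_⟩
  · exact mem_zpowers_of_cyclic' hR hr x.2 (hRn.conj_mem x x.2 g) hx' (by
      rw [← MulAut.conj_apply, MulEquiv.orderOf_eq, hx'])
  · obtain ⟨j, hj⟩ := hy
    have hcard : ∃ n, Nat.card (Cfsg.pCore r X) = r ^ n := IsPGroup.iff_card.1 (pCore_isPGroup (G := X) r)
    obtain ⟨n, hn⟩ := hcard
    have h1 : Subgroup.zpowers y ≤ Subgroup.centralizer (Cfsg.pCore r X : Set X) := by
      refine Cfsg.Agent.Lib.CoprimeAbelian.le_centralizer_of_prime_order (Subgroup.zpowers y) (Cfsg.pCore r X) ?_ ?_ ?_ ?_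
      · intro a ha b hb
        have h2 := hR.isMulCommutative.is_comm.comm ⟨a, ha⟩ ⟨b, hb⟩
        exact congrArg Subtype.val h2
      · rw [Subgroup.normalizer_eq_top]
        exact le_top
      · rw [Nat.card_zpowers, hj, hn]
        exact Nat.Coprime.pow _ _ ((Nat.coprime_primes hp hr).2 hpr.symm)
      · intro v hv hvp a ha
        have hvr : orderOf v = r := by
          have h2 : orderOf v ∣ r ^ n := by
            rw [← hn, ← Subgroup.orderOf_mk v hv]
            exact orderOf_dvd_natCard _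
          exact (Nat.prime_dvd_prime_iff_eq hvp hr).1 (hvp.dvd_of_dvd_pow h2)
        obtain ⟨i, hi⟩ := Subgroup.mem_zpowers_iff.1 (mem_zpowers_of_cyclic' hR hr x.2 hv hx' hvr)
        obtain ⟨k, hk⟩ := Subgroup.mem_zpowers_iff.1 ha
        rw [← hi, ← hk]
        exact ((show Commute y (x : X) from hyx).zpow_left k).zpow_right i
    have h2 : y ∈ Cfsg.pCore r X := hC (h1 (Subgroup.mem_zpowers y))
    have h3 : orderOf y ∣ r ^ n := by
      rw [← hn, ← Subgroup.orderOf_mk y h2]
      exact orderOf_dvd_natCard _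
    rw [hj] at h3
    have h4 : p ^ j = 1 := Nat.Coprime.eq_one_of_dvd (Nat.Coprime.pow _ _ ((Nat.coprime_primes hp hr).2 hpr.symm)) h3
    rw [h4, orderOf_eq_one_iff] at hj
    exact hj

/-- A `p`-group with elements all acting on `⟨x⟩`, `x` of order `r`, faithfully, by powers of order dividing `e`, has
order with `p`-part at most that of `e`. -/
theorem card_le_of_faithful {X : Type u} [Group X] [Finite X] {p r e : ℕ} (hp : p.Prime) (hr : r.Prime) (he : e ≠ 0)
    {x : X} (hx : orderOf x = r) (P : Subgroup X)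
    (hPx : ∀ y ∈ P, ∃ k : ℕ, y * x * y⁻¹ = x ^ k ∧ orderOf (k : ZMod r) ∣ e)
    (hfix : ∀ y ∈ P, y * x = x * y → y = 1) : (Nat.card P).factorization p ≤ e.factorization p := by
  have := Fact.mk hp
  have := Fact.mk hr
  have hpow : ∀ i j : ℕ, x ^ i = x ^ j ↔ (i : ZMod r) = j := fun i j => by
    rw [pow_inj_mod, hx, ZMod.natCast_eq_natCast_iff']
  choose! k hk using hPx
  have hmul : ∀ y ∈ P, ∀ z ∈ P, ((k (y * z) : ℕ) : ZMod r) = k y * k z := fun y hy z hz => by
    rw [← Nat.cast_mul, ← hpow, ← (hk _ (P.mul_mem hy hz)).1]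
    calc y * z * x * (y * z)⁻¹ = y * (z * x * z⁻¹) * y⁻¹ := by group
      _ = y * x ^ k z * y⁻¹ := by rw [(hk z hz).1]
      _ = (y * x * y⁻¹) ^ k z := conj_pow.symm
      _ = x ^ (k y * k z) := by rw [(hk y hy).1, ← pow_mul]
  have hone : ((k 1 : ℕ) : ZMod r) = 1 := by
    rw [← Nat.cast_one, ← hpow, ← (hk 1 P.one_mem).1]
    simp
  have hunit : ∀ y ∈ P, ((k y : ℕ) : ZMod r) * k y⁻¹ = 1 := fun y hy => by
    rw [← hmul y hy _ (P.inv_mem hy), mul_inv_cancel, hone]
  let f : P →* (ZMod r)ˣ :=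
    { toFun := fun y => ⟨k y, k (y : X)⁻¹, hunit _ y.2, by rw [mul_comm]; exact hunit _ y.2⟩
      map_one' := Units.ext hone
      map_mul' := fun y z => Units.ext (hmul y y.2 z z.2) }
  have hf : Function.Injective f := by
    rw [injective_iff_map_eq_one]
    intro y hy
    have h1 : ((k y : ℕ) : ZMod r) = 1 := congrArg Units.val hy
    rw [← Nat.cast_one, ← hpow, ← (hk y y.2).1, pow_one] at h1
    exact Subtype.ext (hfix y y.2 (mul_inv_eq_iff_eq_mul.1 h1))
  have hcyc : IsCyclic P := isCyclic_of_injective f hf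
  obtain ⟨g, hg⟩ := hcyc.exists_generator
  have h1 : Nat.card P = orderOf g := (orderOf_eq_card_of_forall_mem_zpowers hg).symm
  have h2 : Nat.card P ∣ e := by
    rw [h1, ← orderOf_injective f hf g, ← orderOf_units]
    exact (hk g g.2).2
  exact (Nat.factorization_le_iff_dvd Nat.card_pos.ne' he).2 h2 p

/-- `r`-subgroups of the quotient by a normal `p`-subgroup. -/
theorem cyclic_quotient {Y : Type u} [Group Y] [Finite Y] {r : ℕ} (hr : r.Prime)
    (hcyc : ∀ R : Subgroup Y, IsPGroup r R → IsCyclic R) (U : Subgroup Y) [U.Normal] (R : Subgroup (Y ⧸ U))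
    (hR : IsPGroup r R) : IsCyclic R := by
  have := Fact.mk hr
  let f : (R.comap (QuotientGroup.mk' U)) →* R := (QuotientGroup.mk' U).subgroupComap R
  have hf : Function.Surjective f := by
    rintro ⟨y, hy⟩
    obtain ⟨z, rfl⟩ := QuotientGroup.mk'_surjective U y
    exact ⟨⟨z, hy⟩, rfl⟩
  obtain ⟨Q⟩ : Nonempty (Sylow r (R.comap (QuotientGroup.mk' U))) := inferInstance
  have h1 : ((Q.mapSurjective hf : Sylow r R) : Subgroup R) = ⊤ := by
    have h2 : IsPGroup r (⊤ : Subgroup R) := hR.to_subgroup ⊤ |>.of_equiv (MulEquiv.refl _)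
    exact ((Q.mapSurjective hf).is_maximal' h2 le_top).symm
  have h3 : IsCyclic (Q : Subgroup (R.comap (QuotientGroup.mk' U))) := by
    have h4 := hcyc ((Q : Subgroup _).map (R.comap (QuotientGroup.mk' U)).subtype) (Q.isPGroup'.map _)
    have e := (Q : Subgroup _).equivMapOfInjective (R.comap (QuotientGroup.mk' U)).subtype
      (Subgroup.subtype_injective _)
    exact isCyclic_of_injective e.toMonoidHom e.injective
  refine isCyclic_of_surjective (f.comp (Q : Subgroup _).subtype) ?_
  intro y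
  have h4 : y ∈ ((Q.mapSurjective hf : Sylow r R) : Subgroup R) := by rw [h1]; trivial
  rw [Sylow.coe_mapSurjective] at h4
  obtain ⟨z, hz, hzy⟩ := h4
  exact ⟨⟨z, hz⟩, hzy⟩

/-- Lifting an element of order `r` through a quotient by a `p`-group. -/
theorem exists_lift {Y : Type u} [Group Y] [Finite Y] {p r : ℕ} (hp : p.Prime) (hr : r.Prime) (hpr : r ≠ p)
    (U : Subgroup Y) [U.Normal] (hU : IsPGroup p U) (xb : Y ⧸ U) (hx : orderOf xb = r) :
    ∃ x : Y, orderOf x = r ∧ (x : Y ⧸ U) = xb := by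
  have := Fact.mk hr
  have := Fact.mk hp
  obtain ⟨a, ha⟩ := IsPGroup.iff_card.1 hU
  obtain ⟨x0, rfl⟩ := QuotientGroup.mk_surjective xb
  have hcop : Nat.Coprime (p ^ a) r := Nat.Coprime.pow_left _ ((Nat.coprime_primes hp hr).2 hpr.symm)
  obtain ⟨m, hm⟩ := Nat.exists_mul_mod_eq_one_of_coprime hcop hr.one_lt
  have h1 : ((x0 ^ (p ^ a * m) : Y) : Y ⧸ U) = x0 := by
    rw [QuotientGroup.mk_pow, ← pow_mod_orderOf, hx, hm.2, pow_one]
  refine ⟨x0 ^ (p ^ a * m), ?_, h1⟩
  refine orderOf_eq_prime ?_ ?_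
  · rw [← pow_mul, mul_assoc, mul_comm m r, ← mul_assoc, mul_comm (p ^ a) r, mul_assoc, pow_mul]
    have h2 : x0 ^ r ∈ U := by
      rw [← QuotientGroup.eq_one_iff, QuotientGroup.mk_pow, ← hx, pow_orderOf_eq_one]
    have h3 : (⟨x0 ^ r, h2⟩ : U) ^ p ^ a = 1 := by rw [← ha]; exact pow_card_eq_one'
    have h4 : (x0 ^ r) ^ p ^ a = 1 := congrArg Subtype.val h3
    rw [pow_mul, h4, one_pow]
  · intro h2
    rw [h2, QuotientGroup.mk_one] at h1
    rw [← h1, orderOf_one] at hx
    exact hr.one_lt.ne hx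

/-- Frattini: an element normalizing `⟨x⟩ U` can be changed modulo `U` to normalize `⟨x⟩`. -/
theorem exists_normalizing {Y : Type u} [Group Y] [Finite Y] {p r : ℕ} (hp : p.Prime) (hr : r.Prime) (hpr : r ≠ p)
    (U : Subgroup Y) [hUn : U.Normal] (hU : IsPGroup p U) {x : Y} (hx : orderOf x = r) {y0 : Y}
    (hy0 : ∃ k : ℕ, ((y0 * x * y0⁻¹ : Y) : Y ⧸ U) = ((x ^ k : Y) : Y ⧸ U)) :
    ∃ y : Y, (y : Y ⧸ U) = y0 ∧ ∃ k : ℕ, y * x * y⁻¹ = x ^ k := by
  have := Fact.mk hr
  have := Fact.mk hp
  obtain ⟨a, ha⟩ := IsPGroup.iff_card.1 hU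
  obtain ⟨k, hk⟩ := hy0
  set W : Subgroup Y := U ⊔ Subgroup.zpowers x with hW
  have hxW : Subgroup.zpowers x ≤ W := le_sup_right
  have hUW : U ≤ W := le_sup_left
  have hyW : y0 * x * y0⁻¹ ∈ W := by
    rw [QuotientGroup.eq] at hk
    have h1 : y0 * x * y0⁻¹ = x ^ k * ((y0 * x * y0⁻¹)⁻¹ * x ^ k)⁻¹ := by group
    rw [h1]
    exact W.mul_mem (hxW (Subgroup.pow_mem _ (Subgroup.mem_zpowers x) k)) (W.inv_mem (hUW hk))
  have hfac : (Nat.card W).factorization r = 1 := by
    have h1 : Nat.card W ∣ p ^ a * r := by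
      have := card_sup_dvd U (Subgroup.zpowers x) hUn
      rwa [ha, Nat.card_zpowers, hx] at this
    have h2 : r ∣ Nat.card W := by
      have := Subgroup.card_dvd_of_le hxW
      rwa [Nat.card_zpowers, hx] at this
    have h3 := (Nat.factorization_le_iff_dvd Nat.card_pos.ne' (mul_ne_zero (pow_ne_zero _ hp.ne_zero) hr.ne_zero)).2 h1 r
    rw [Nat.factorization_mul (pow_ne_zero _ hp.ne_zero) hr.ne_zero, Finsupp.add_apply, Nat.factorization_pow,
      Finsupp.smul_apply, hp.factorization, hr.factorization, Finsupp.single_eq_same,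
      Finsupp.single_eq_of_ne hpr] at h3
    have h4 := (hr.dvd_iff_one_le_factorization Nat.card_pos.ne').1 h2
    simp at h3
    omega
  have key : ∀ z : Y, ∀ hz : z ∈ W, orderOf z = r → Nat.card (Subgroup.zpowers (⟨z, hz⟩ : W)) =
      r ^ (Nat.card W).factorization r := fun z hz hzr => by
    rw [hfac, pow_one, Nat.card_zpowers, Subgroup.orderOf_mk, hzr]
  have hy : orderOf (y0 * x * y0⁻¹) = r := by rw [← MulAut.conj_apply, MulEquiv.orderOf_eq, hx]
  obtain ⟨w, hw⟩ := MulAction.exists_smul_eq W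
    (Sylow.ofCard _ (key _ hyW hy)) (Sylow.ofCard _ (key x (hxW (Subgroup.mem_zpowers x)) hx))
  have h5 : (w : Y) * (y0 * x * y0⁻¹) * (w : Y)⁻¹ ∈ Subgroup.zpowers x := by
    have h6 : (⟨(w : Y) * (y0 * x * y0⁻¹) * (w : Y)⁻¹, W.mul_mem (W.mul_mem w.2 hyW) (W.inv_mem w.2)⟩ : W) ∈
        Subgroup.zpowers (⟨x, hxW (Subgroup.mem_zpowers x)⟩ : W) := by
      have h7 := congrArg (fun S : Sylow r W => (S : Subgroup W)) hw
      have h8 : (⟨(w : Y) * (y0 * x * y0⁻¹) * (w : Y)⁻¹, W.mul_mem (W.mul_mem w.2 hyW) (W.inv_mem w.2)⟩ : W) ∈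
          ((w • (Sylow.ofCard _ (key _ hyW hy)) : Sylow r W) : Subgroup W) := by
        rw [Sylow.coe_subgroup_smul]
        exact ⟨⟨y0 * x * y0⁻¹, hyW⟩, Subgroup.mem_zpowers _, rfl⟩
      rw [hw] at h8
      exact h8
    obtain ⟨i, hi⟩ := Subgroup.mem_zpowers_iff.1 h6
    exact Subgroup.mem_zpowers_iff.2 ⟨i, congrArg Subtype.val hi⟩
  -- write `w = u * x ^ j`
  obtain ⟨v, hv, t, ht, hvt⟩ := Subgroup.mem_sup_of_normal_right.1 (show (w : Y) ∈ Subgroup.zpowers x ⊔ U by
    rw [sup_comm]; exact w.2)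
  refine ⟨t * y0, ?_, ?_⟩
  · rw [QuotientGroup.mk_mul, (QuotientGroup.eq_one_iff t).2 ht, one_mul]
  · have h9 : t * y0 * x * (t * y0)⁻¹ = v⁻¹ * ((w : Y) * (y0 * x * y0⁻¹) * (w : Y)⁻¹) * v := by
      rw [← hvt]; group
    have h10 : t * y0 * x * (t * y0)⁻¹ ∈ Subgroup.zpowers x := by
      rw [h9]
      exact (Subgroup.zpowers x).mul_mem ((Subgroup.zpowers x).mul_mem ((Subgroup.zpowers x).inv_mem hv) h5) hv
    have h11 : t * y0 * x * (t * y0)⁻¹ ∈ Submonoid.powers x := mem_powers_iff_mem_zpowers.2 h10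
    obtain ⟨k', hk'⟩ := h11
    exact ⟨k', hk'.symm⟩

/-- The bound for a solvable `{p, r}`-group. -/
theorem core_bound {Y : Type u} [Group Y] [Finite Y] [Group.IsSolvable Y] {p r e b : ℕ} (hp : p.Prime)
    (hr : r.Prime) (hpr : r ≠ p) (he : e ≠ 0) (hprs : ∀ l : ℕ, l.Prime → l ∣ Nat.card Y → l = p ∨ l = r)
    (hcyc : ∀ R : Subgroup Y, IsPGroup r R → IsCyclic R)
    (hgal : ∀ x y : Y, orderOf x = r → ∀ k j : ℕ, orderOf y = p ^ j → y * x * y⁻¹ = x ^ k →
      orderOf (k : ZMod r) ∣ e)
    (hU : ∀ x : Y, orderOf x = r → ∀ U : Subgroup Y, IsPGroup p U → x ∈ Subgroup.normalizer (U : Set Y) →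
      (Nat.card U).factorization p ≤ b) (hrY : r ∣ Nat.card Y) :
    (Nat.card Y).factorization p ≤ b + e.factorization p := by
  have := Fact.mk hp
  have := Fact.mk hr
  set U := Cfsg.pCore p Y with hUdef
  have hUn : U.Normal := pCore_normal p
  have hUp : IsPGroup p U := pCore_isPGroup p
  obtain ⟨a, ha⟩ := IsPGroup.iff_card.1 hUp
  have hcardY : Nat.card Y = Nat.card (Y ⧸ U) * Nat.card U := Subgroup.card_eq_card_quotient_mul_card_subgroup U
  have hrq : r ∣ Nat.card (Y ⧸ U) := by
    rw [hcardY, ha] at hrY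
    exact (Nat.Coprime.dvd_of_dvd_mul_right (Nat.Coprime.pow_right _ ((Nat.coprime_primes hr hp).2 hpr)) hrY)
  obtain ⟨xb, hxb, hxn, hxc⟩ := exists_normal_elt (X := Y ⧸ U) hp hr hpr
    (fun l hl h => hprs l hl (h.trans (by rw [hcardY]; exact dvd_mul_right _ _))) (pCore_quotient_pCore p)
    (fun R hR => cyclic_quotient hr hcyc U R hR) hrq
  obtain ⟨x, hx, hxx⟩ := exists_lift hp hr hpr U hUp xb hxb
  obtain ⟨P⟩ : Nonempty (Sylow p (Y ⧸ U)) := inferInstance
  have h1 : (Nat.card (P : Subgroup (Y ⧸ U))).factorization p ≤ e.factorization p := by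
    refine card_le_of_faithful hp hr he hxb (P : Subgroup (Y ⧸ U)) ?_ ?_
    · intro y hy
      obtain ⟨y0, rfl⟩ := QuotientGroup.mk_surjective y
      obtain ⟨k, hk⟩ : ∃ k : ℕ, (y0 : Y ⧸ U) * xb * (y0 : Y ⧸ U)⁻¹ = xb ^ k := by
        obtain ⟨k, hk⟩ := mem_powers_iff_mem_zpowers.2 (hxn (y0 : Y ⧸ U))
        exact ⟨k, hk.symm⟩
      obtain ⟨y1, hy1, k', hk'⟩ := exists_normalizing hp hr hpr U hUp hx (y0 := y0) ⟨k, by
        rw [QuotientGroup.mk_mul, QuotientGroup.mk_mul, QuotientGroup.mk_inv, QuotientGroup.mk_pow, hxx, hk]⟩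
      refine ⟨k', ?_, ?_⟩
      · rw [← hy1, ← hxx, ← QuotientGroup.mk_inv, ← QuotientGroup.mk_mul, ← QuotientGroup.mk_mul, hk',
          QuotientGroup.mk_pow]
      · obtain ⟨j, hj⟩ := P.isPGroup' ⟨_, hy⟩
        have hj' : (y0 : Y ⧸ U) ^ p ^ j = 1 := congrArg Subtype.val hj
        rw [← hy1, ← QuotientGroup.mk_pow, QuotientGroup.eq_one_iff] at hj'
        obtain ⟨i, hi⟩ := hUp ⟨_, hj'⟩
        have hi' : (y1 ^ p ^ j) ^ p ^ i = 1 := congrArg Subtype.val hi
        rw [← pow_mul, ← pow_add] at hi'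
        obtain ⟨m, _, hm⟩ := (Nat.dvd_prime_pow hp).1 (orderOf_dvd_of_pow_eq_one hi')
        exact hgal x y1 hx k' m hm hk'
    · intro y hy hyx
      refine hxc y ?_ hyx
      obtain ⟨j, hj⟩ := IsPGroup.iff_orderOf.1 P.isPGroup' ⟨y, hy⟩
      exact ⟨j, by rw [← hj, Subgroup.orderOf_mk]⟩
  have h2 : (Nat.card (Y ⧸ U)).factorization p = (Nat.card (P : Subgroup (Y ⧸ U))).factorization p := by
    rw [P.card_eq_multiplicity, Nat.factorization_pow, Finsupp.smul_apply, hp.factorization,
      Finsupp.single_eq_same, smul_eq_mul, mul_one]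
  have h3 : (Nat.card U).factorization p ≤ b := hU x hx U hUp (by
    rw [Subgroup.normalizer_eq_top]; trivial)
  rw [hcardY, Nat.factorization_mul Nat.card_pos.ne' Nat.card_pos.ne', Finsupp.add_apply]
  omega

/-- **The abstract bound.** -/
theorem bdAbs : BdAbs.{u} := by
  intro G _ _ r p e b hr hp hpr he hcyc hgal hU M hM hrM
  have := Fact.mk hp
  have := Fact.mk hr
  set α := (Nat.card M).factorization p with hα
  set β := (Nat.card M).factorization r with hβ
  have hM0 : Nat.card M ≠ 0 := Nat.card_pos.ne'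
  have hm : p ^ α * r ^ β ∣ Nat.card M := Nat.Coprime.mul_dvd_of_dvd_of_dvd
    (Nat.Coprime.pow _ _ ((Nat.coprime_primes hp hr).2 hpr.symm)) (Nat.ordProj_dvd _ _) (Nat.ordProj_dvd _ _)
  obtain ⟨n, hn⟩ := hm
  have hn0 : n ≠ 0 := by rintro rfl; exact hM0 (by rw [hn, mul_zero])
  have hf : ∀ l : ℕ, (Nat.card M).factorization l = α * p.factorization l + β * r.factorization l +
      n.factorization l := fun l => by
    rw [hn, Nat.factorization_mul (mul_ne_zero (pow_ne_zero _ hp.ne_zero) (pow_ne_zero _ hr.ne_zero)) hn0,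
      Nat.factorization_mul (pow_ne_zero _ hp.ne_zero) (pow_ne_zero _ hr.ne_zero), Nat.factorization_pow,
      Nat.factorization_pow]
    simp
  have hpn : ¬ p ∣ n := by
    intro h
    have h1 := hf p
    rw [← hα, hp.factorization, hr.factorization, Finsupp.single_eq_same, Finsupp.single_eq_of_ne hpr.symm] at h1
    have h2 := (hp.dvd_iff_one_le_factorization hn0).1 h
    omega
  have hrn : ¬ r ∣ n := by
    intro h
    have h1 := hf r
    rw [← hβ, hp.factorization, hr.factorization, Finsupp.single_eq_same, Finsupp.single_eq_of_ne hpr] at h1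
    have h2 := (hr.dvd_iff_one_le_factorization hn0).1 h
    omega
  have hcop : (p ^ α * r ^ β).Coprime n := Nat.Coprime.mul_left
    (Nat.Coprime.pow_left _ ((Nat.Prime.coprime_iff_not_dvd hp).2 hpn))
    (Nat.Coprime.pow_left _ ((Nat.Prime.coprime_iff_not_dvd hr).2 hrn))
  obtain ⟨Y, hY, -⟩ := Cfsg.Agent.S0005.result (p ^ α * r ^ β) n hn hcop ⊥ (by simp)
  have hYs : Group.IsSolvable Y := inferInstance
  have hβ0 : β ≠ 0 := by
    have := (hr.dvd_iff_one_le_factorization hM0).1 hrM
    omega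
  have h1 := core_bound (Y := Y) (b := b) hp hr hpr he (fun l hl hd => by
    rw [hY] at hd
    rcases (Nat.Prime.dvd_mul hl).1 hd with h | h
    · exact Or.inl ((Nat.prime_dvd_prime_iff_eq hl hp).1 (hl.dvd_of_dvd_pow h))
    · exact Or.inr ((Nat.prime_dvd_prime_iff_eq hl hr).1 (hl.dvd_of_dvd_pow h))) (fun R hR => by
      have h2 := hcyc ((R.map Y.subtype).map M.subtype) ((hR.map _).map _)
      have e1 := R.equivMapOfInjective Y.subtype (Subgroup.subtype_injective _)
      have e2 := (R.map Y.subtype).equivMapOfInjective M.subtype (Subgroup.subtype_injective _)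
      exact isCyclic_of_injective (e1.trans e2).toMonoidHom (e1.trans e2).injective) (fun x y hx k j hy h => by
      refine hgal (x : M) (y : M) (by rw [Subgroup.orderOf_coe, Subgroup.orderOf_coe, hx]) k j
        (by rw [Subgroup.orderOf_coe, Subgroup.orderOf_coe, hy]) ?_
      exact congrArg (fun z : Y => ((z : M) : G)) h) (fun x hx U hUp hxU => by
      have h2 := hU (x : M) (by rw [Subgroup.orderOf_coe, Subgroup.orderOf_coe, hx]) ((U.map Y.subtype).map M.subtype)
        ((hUp.map _).map _) (by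
          rw [Subgroup.mem_normalizer_iff] at hxU ⊢
          intro z
          constructor
          · rintro ⟨_, ⟨u, hu, rfl⟩, rfl⟩
            exact ⟨_, ⟨x * u * x⁻¹, (hxU u).1 hu, rfl⟩, rfl⟩
          · rintro ⟨_, ⟨u, hu, rfl⟩, hz⟩
            have h3 : z = ((x⁻¹ * u * x : Y) : M) := by
              change ((u : M) : G) = x * z * (x : G)⁻¹ at hz
              change z = (((x : M) : G)⁻¹ * ((u : M) : G) * ((x : M) : G))
              rw [hz]
              group
            rw [h3]
            refine ⟨_, ⟨x⁻¹ * u * x, ?_, rfl⟩, rfl⟩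
            rw [SetLike.mem_coe, hxU]
            have h4 : x * (x⁻¹ * u * x) * x⁻¹ = u := by group
            rw [h4]
            exact hu)
      rwa [Subgroup.card_map_of_injective (Subgroup.subtype_injective _),
        Subgroup.card_map_of_injective (Subgroup.subtype_injective _)] at h2) (by
      rw [hY]
      exact (dvd_pow_self r hβ0).mul_left _)
  rw [hY, Nat.factorization_mul (pow_ne_zero _ hp.ne_zero) (pow_ne_zero _ hr.ne_zero), Nat.factorization_pow,
    Nat.factorization_pow, Finsupp.add_apply, Finsupp.smul_apply, Finsupp.smul_apply, hp.factorization,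
    hr.factorization, Finsupp.single_eq_same, Finsupp.single_eq_of_ne hpr.symm] at h1
  simpa using h1

end Cfsg.Agent.H176.NF
end
end
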